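import Groth.Agent.H15Site.PunctFF.Main
import Mathlib.Topology.Sober

/-!
# Closures by specialization
-/

set_option autoImplicit false
set_option linter.style.haveILetI false
set_option linter.unusedSectionVars false
set_option backward.isDefEq.respectTransparency false
set_option backward.isDefEq.respectTransparency.types false

universe u

open CategoryTheory CategoryTheory.Limits AlgebraicGeometry Opposite IsLocalRing

namespace Groth.Agent.H15Site.PunctFF

/-- In an affine scheme the closure of a compact open consists of specializations. -/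
theorem exists_generization_spec {A : Type u} [CommRing A] {K : Set (PrimeSpectrum A)}
    (hc : IsCompact K) (ho : IsOpen K) {p : PrimeSpectrum A} (hp : p ∈ closure K) :
    ∃ q ∈ K, q ⤳ p := by
  obtain ⟨t, rfl⟩ := PrimeSpectrum.isCompact_isOpen_iff.1 ⟨hc, ho⟩
  by_contra hn
  have key : ∀ f ∈ t, ∃ s : A, s ∉ p.asIdeal ∧ ∀ q : PrimeSpectrum A, s ∉ q.asIdeal → f ∈ q.asIdeal := by
    intro f hf
    have hnil : IsNilpotent (algebraMap A (Localization.AtPrime p.asIdeal) f) := by
      rw [nilpotent_iff_mem_prime]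
      intro P hP
      by_contra hfP
      refine hn ⟨⟨P.comap (algebraMap A _), inferInstance⟩, fun h => hfP (h hf), ?_⟩
      rw [← PrimeSpectrum.le_iff_specializes]
      intro a ha
      by_contra hap
      exact hP.ne_top (Ideal.eq_top_of_isUnit_mem _ ha
        (IsLocalization.map_units (M := p.asIdeal.primeCompl) (Localization.AtPrime p.asIdeal) ⟨a, hap⟩))
    obtain ⟨n, hn'⟩ := hnil
    rw [← map_pow, IsLocalization.map_eq_zero_iff p.asIdeal.primeCompl] at hn'
    obtain ⟨s, hs⟩ := hn'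
    refine ⟨s, s.2, fun q hq => q.isPrime.mem_of_pow_mem n ?_⟩
    exact (q.isPrime.mem_or_mem (hs.symm ▸ q.asIdeal.zero_mem)).resolve_left hq
  choose s hs hs' using key
  let W : Set (PrimeSpectrum A) := (PrimeSpectrum.basicOpen (∏ f ∈ t.attach, s f.1 f.2) : Set (PrimeSpectrum A))
  have hpW : p ∈ W := fun h => by
    obtain ⟨f, -, hf⟩ := p.isPrime.prod_mem_iff.1 h
    exact hs f.1 f.2 hf
  obtain ⟨q, hqW, hqK⟩ := mem_closure_iff.1 hp W (PrimeSpectrum.basicOpen _).isOpen hpW
  refine hqK fun f hf => hs' f hf q fun h => hqW ?_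
  exact q.asIdeal.mem_of_dvd (Finset.dvd_prod_of_mem _ (Finset.mem_attach t ⟨f, hf⟩)) h

theorem closureBySpecialization_of_quasiCompact {X : Scheme.{u}} (U : X.Opens) [QuasiCompact U.ι] :
    ClosureBySpecialization U := by
  intro P T hT z hz
  let j := pullback.fst P.hom U.ι
  obtain ⟨V, hV, hzV, -⟩ := exists_isAffineOpen_mem_and_subset (x := z) (U := ⊤) trivial
  let K := j.base '' T ∩ (V : Set P.left)
  have hK : IsCompact K := by
    have h1 : IsCompact (j.base ⁻¹' (V : Set P.left)) :=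
      j.isCompact_preimage hV.isCompact
    have : K = j.base '' (T ∩ j.base ⁻¹' (V : Set P.left)) := (Set.image_inter_preimage _ _ _).symm
    rw [this]
    exact (h1.inter_left hT.1).image j.continuous
  have hKo : IsOpen K := (j.isOpenMap _ hT.2).inter V.2
  have hzK : z ∈ closure K := by
    rw [mem_closure_iff] at hz ⊢
    intro O hO hzO
    obtain ⟨w, ⟨hwO, hwV⟩, hwT⟩ := hz (O ∩ V) (hO.inter V.2) ⟨hzO, hzV⟩
    exact ⟨w, hwO, hwT, hwV⟩
  have he : Topology.IsOpenEmbedding hV.fromSpec.base := hV.fromSpec.isOpenEmbedding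
  obtain ⟨p, rfl⟩ : z ∈ Set.range hV.fromSpec.base := by rw [hV.range_fromSpec]; exact hzV
  have hKr : K ⊆ Set.range hV.fromSpec.base := by rw [hV.range_fromSpec]; exact Set.inter_subset_right
  obtain ⟨q, hq, hqp⟩ := exists_generization_spec (K := hV.fromSpec.base ⁻¹' K)
    (he.isInducing.isCompact_preimage' hK hKr) (hKo.preimage he.continuous) (p := p)
    (by rw [← he.isOpenMap.preimage_closure_eq_closure_preimage he.continuous]; exact hzK)
  exact ⟨_, hq.1, hqp.map he.continuous⟩

theorem closureBySpecialization_of_finite {X : Scheme.{u}} (U : X.Opens)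
    (hirr : ∀ V : X.Opens, IsCompact (V : Set X) → (irreducibleComponents ↥V).Finite) :
    ClosureBySpecialization U := by
  intro P T hT z hz
  haveI : IsFinite P.hom := P.prop.1
  haveI : Etale P.hom := P.prop.2
  let j := pullback.fst P.hom U.ι
  obtain ⟨W, hW, hzW, -⟩ := exists_isAffineOpen_mem_and_subset (x := P.hom.base z) (U := ⊤) trivial
  let V : P.left.Opens := P.hom ⁻¹ᵁ W
  let M : Set X := {x | ∃ w : W, w ∈ genericPoints W ∧ w.1 = x}
  have hM : M.Finite := ((genericPoints.finite (hirr W hW.isCompact)).image Subtype.val).subset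
    fun x ⟨w, hw, e⟩ => ⟨w, hw, e⟩
  let G : Set P.left := {η | ∃ w : V, w ∈ genericPoints V ∧ w.1 = η}
  have hG : G.Finite := by
    refine (hM.preimage' fun x _ => P.hom.finite_preimage_singleton x).subset ?_
    rintro η ⟨w, hw, rfl⟩
    let y : W := ⟨P.hom.base w.1, w.2⟩
    obtain ⟨c, hc⟩ : ∃ c : genericPoints W, c.1 ⤳ y := by
      obtain ⟨C, hC, hyC⟩ : ∃ C ∈ irreducibleComponents W, y ∈ C :=
        ⟨_, irreducibleComponent_mem_irreducibleComponents y, mem_irreducibleComponent⟩
      exact ⟨genericPoints.ofComponent ⟨C, hC⟩, (genericPoints.isGenericPoint_ofComponent ⟨C, hC⟩).specializes hyC⟩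
    refine ⟨c.1, c.2, ?_⟩
    obtain ⟨η', hη', hη''⟩ := Flat.generalizingMap (f := P.hom)
      (hc.map continuous_subtype_val : c.1.1 ⤳ P.hom.base w.1)
    have hV : η' ∈ V := show P.hom.base η' ∈ W from hη''.symm ▸ c.1.2
    have hw' : (⟨η', hV⟩ : V) ⤳ w := (subtype_specializes_iff _ _).2 hη'
    have : closure {w} ⊆ closure {(⟨η', hV⟩ : V)} := hw'.mem_closure |> fun h =>
      closure_minimal (Set.singleton_subset_iff.2 h) isClosed_closure
    have h2 := hw.2 isIrreducible_singleton.closure this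
    have h3 : w ⤳ (⟨η', hV⟩ : V) := specializes_iff_mem_closure.2 (h2 (subset_closure rfl))
    show c.1.1 = P.hom.base w.1
    rw [← hη'', show η' = w.1 from congrArg Subtype.val (hw'.antisymm h3).eq]
  let G' := G ∩ j.base '' T
  have hsub : j.base '' T ∩ (V : Set P.left) ⊆ ⋃ η ∈ G', closure {η} := by
    rintro a ⟨haT, haV⟩
    obtain ⟨c, hc⟩ : ∃ c : genericPoints V, c.1 ⤳ ⟨a, haV⟩ := by
      obtain ⟨C, hC, hyC⟩ : ∃ C ∈ irreducibleComponents V, (⟨a, haV⟩ : V) ∈ C :=
        ⟨_, irreducibleComponent_mem_irreducibleComponents _, mem_irreducibleComponent⟩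
      exact ⟨genericPoints.ofComponent ⟨C, hC⟩, (genericPoints.isGenericPoint_ofComponent ⟨C, hC⟩).specializes hyC⟩
    have hca : c.1.1 ⤳ a := hc.map continuous_subtype_val
    exact Set.mem_biUnion ⟨⟨c.1, c.2, rfl⟩, hca.mem_open (j.isOpenMap _ hT.2) haT⟩ hca.mem_closure
  have hclosed : IsClosed (⋃ η ∈ G', closure {η} : Set P.left) :=
    (hG.subset Set.inter_subset_left).isClosed_biUnion fun η _ => isClosed_closure
  have hz' : z ∈ ⋃ η ∈ G', closure {η} := by
    refine hclosed.closure_subset_iff.2 hsub ?_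
    rw [mem_closure_iff] at hz ⊢
    intro O hO hzO
    obtain ⟨w, ⟨hwO, hwV⟩, hwT⟩ := hz (O ∩ (V : Set P.left)) (hO.inter V.2) ⟨hzO, hzW⟩
    exact ⟨w, hwO, hwT, hwV⟩
  obtain ⟨η, hη, hηz⟩ := Set.mem_iUnion₂.1 hz'
  exact ⟨η, hη.2, specializes_iff_mem_closure.2 hηz⟩

end Groth.Agent.H15Site.PunctFF
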