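import Groth.Agent.H18Et.FEtRestrict
import Groth.Agent.H18Et.Henselian
import Groth.Agent.H18Et.Stalk
import Groth.Agent.H9Hens.StrictHens
import Groth.Agent.H22Alg.FlatSurj
import Mathlib.AlgebraicGeometry.Morphisms.UniversallyOpen

/-!
# Restriction of finite étale covers to dense opens with connected punctured strict henselizations
-/

set_option autoImplicit false
set_option linter.style.haveILetI false
set_option linter.unusedSectionVars false
set_option backward.isDefEq.respectTransparency false
set_option backward.isDefEq.respectTransparency.types false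

universe u

open CategoryTheory CategoryTheory.Limits AlgebraicGeometry Opposite IsLocalRing

namespace Groth.Agent.H15Site.PunctFF

open Groth.Agent.H18Et

/-- A flat morphism to an étale scheme over the base. -/
theorem flat_of_comp_etale {U V S : Scheme.{u}} (a : U ⟶ V) (p : V ⟶ S) [Flat (a ≫ p)] [Etale p] : Flat a := by
  let q := pullback.fst (a ≫ p) p
  let Γ : U ⟶ pullback (a ≫ p) p := pullback.lift (𝟙 U) a (Category.id_comp _)
  have hΓ : Γ ≫ q = 𝟙 U := pullback.lift_fst _ _ _
  haveI : Etale q := inferInstance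
  haveI : Etale (Γ ≫ q) := hΓ ▸ inferInstance
  haveI : Etale Γ := Etale.of_comp Γ q
  haveI : Flat (pullback.snd (a ≫ p) p) := inferInstance
  rw [show a = Γ ≫ pullback.snd (a ≫ p) p from (pullback.lift_snd _ _ _).symm]
  infer_instance

section Strict

variable (A R : Type u) [CommRing A] [IsLocalRing A] [CommRing R] [IsLocalRing R] [Algebra A R]
  [IsLocalHom (algebraMap A R)] [Hensel.IsStrictHenselization A R]

theorem flat_strictHens : Module.Flat A R := by
  obtain ⟨k, _, _, _, _, _, π, hπ⟩ := H9Hens.exists_isPtColim_of_isStrictHenselization (R := A) R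
  exact hπ.flat

theorem map_maximalIdeal : (maximalIdeal A).map (algebraMap A R) = maximalIdeal R := by
  obtain ⟨k, _, _, _, _, _, π, hπ⟩ := H9Hens.exists_isPtColim_of_isStrictHenselization (R := A) R
  exact hπ.map_maximalIdeal H9Hens.ker_algebraMap_of_tower

theorem eq_closedPoint_of_comap (p : PrimeSpectrum R)
    (h : PrimeSpectrum.comap (algebraMap A R) p = closedPoint A) : p = closedPoint R := by
  refine PrimeSpectrum.ext (le_antisymm (le_maximalIdeal p.isPrime.ne_top) ?_)
  show maximalIdeal R ≤ p.asIdeal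
  rw [← map_maximalIdeal A R, Ideal.map_le_iff_le_comap]
  exact le_of_eq (congrArg PrimeSpectrum.asIdeal h).symm

end Strict

/-- The hypothesis: the strict local rings at the points outside `U` have connected punctured spectrum. -/
def ConnectedAtInfinity {X : Scheme.{u}} (U : X.Opens) : Prop :=
  ∀ x : X, x ∉ U → ∀ (R : Type u) [CommRing R] [IsLocalRing R] [Algebra (X.presheaf.stalk x) R]
    [IsLocalHom (algebraMap (X.presheaf.stalk x) R)] [Hensel.IsStrictHenselization (X.presheaf.stalk x) R],
    ConnectedSpace (FEt.puncturedSpec R : Scheme.{u})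

/-- Points in the closure of an open of a cover lie over generizations in that open. -/
def ClosureBySpecialization {X : Scheme.{u}} (U : X.Opens) : Prop :=
  ∀ (P : FEt.Cat X) (T : Set ↥((FEt.restrict U.ι).obj P).left), IsClopen T →
    ∀ z : P.left, z ∈ closure ((pullback.fst P.hom U.ι).base '' T) →
      ∃ η ∈ (pullback.fst P.hom U.ι).base '' T, η ⤳ z

theorem meetsClopens {X : Scheme.{u}} {U : X.Opens} (hU : Dense (U : Set X)) :
    FEtRestrict.MeetsClopens U.ι := fun V hV hne => by
  obtain ⟨x, hxV, hxU⟩ := hU.inter_open_nonempty V hV.2 hne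
  exact ⟨x, hxV, by rw [Scheme.Opens.range_ι]; exact hxU⟩

theorem disjoint_closure {X : Scheme.{u}} {U : X.Opens} (hsh : ConnectedAtInfinity U)
    (hcs : ClosureBySpecialization U) (P : FEt.Cat X) (T : Set ↥((FEt.restrict U.ι).obj P).left)
    (hT : IsClopen T) (hU : Dense (U : Set X)) :
    Disjoint (closure ((pullback.fst P.hom U.ι).base '' T)) (closure ((pullback.fst P.hom U.ι).base '' Tᶜ)) := by
  haveI : IsFinite P.hom := P.prop.1
  haveI : Etale P.hom := P.prop.2
  let j := pullback.fst P.hom U.ι
  let C := closure (j.base '' T)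
  let D := closure (j.base '' Tᶜ)
  rw [Set.disjoint_iff_inter_eq_empty]
  by_contra hne
  obtain ⟨z, ⟨hzC, hzD⟩, hmax⟩ : ∃ z ∈ C ∩ D, ∀ w ∈ C ∩ D, w ⤳ z → w = z := by
    obtain ⟨x, hx⟩ := Set.nonempty_iff_ne_empty.2 hne
    obtain ⟨I, hI⟩ := (PrimeSpectrum.isClosed_iff_zeroLocus_ideal _).mp
      ((isClosed_closure.inter isClosed_closure : IsClosed (C ∩ D)).preimage (P.left.fromSpecStalk x).continuous)
    have hm : I ≤ maximalIdeal (P.left.presheaf.stalk x) := by
      have : closedPoint (P.left.presheaf.stalk x) ∈ P.left.fromSpecStalk x ⁻¹' (C ∩ D) := by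
        show P.left.fromSpecStalk x _ ∈ C ∩ D
        rw [Scheme.fromSpecStalk_closedPoint]; exact hx
      exact fun a ha => (hI.le this) ha
    obtain ⟨q, hq, -⟩ := Ideal.exists_minimalPrimes_le hm
    let qp : Spec (P.left.presheaf.stalk x) := (⟨q, hq.1.1⟩ : PrimeSpectrum (P.left.presheaf.stalk x))
    refine ⟨P.left.fromSpecStalk x qp, (hI.ge hq.1.2 : qp ∈ P.left.fromSpecStalk x ⁻¹' (C ∩ D)),
      fun w hw hwq => ?_⟩
    obtain ⟨r, rfl⟩ : w ∈ Set.range (P.left.fromSpecStalk x) := by
      rw [P.left.range_fromSpecStalk]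
      exact hwq.trans (show P.left.fromSpecStalk x qp ∈ {y | y ⤳ x} from
        P.left.range_fromSpecStalk ▸ Set.mem_range_self qp)
    have hr : r ⤳ qp := (P.left.fromSpecStalk x).isEmbedding.isInducing.specializes_iff.mp hwq
    have hle : r.asIdeal ≤ q := (PrimeSpectrum.le_iff_specializes r qp).mpr hr
    have hrI : I ≤ r.asIdeal := fun a ha => hI.le hw ha
    exact congrArg _ (PrimeSpectrum.ext (le_antisymm hle (hq.2 ⟨r.isPrime, hrI⟩ hle)) : r = qp)
  have hopen : ∀ S : Set ↥((FEt.restrict U.ι).obj P).left, IsOpen S → IsOpen (j.base '' S) :=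
    fun S hS => j.isOpenMap S hS
  have hinj : Function.Injective j.base := j.isOpenEmbedding.injective
  have hdis : Disjoint (j.base '' T) (j.base '' Tᶜ) := Set.disjoint_image_of_injective hinj disjoint_compl_right
  have hCD2 : Disjoint C (j.base '' Tᶜ) := hdis.closure_left (hopen _ hT.compl.2)
  have hC1D : Disjoint (j.base '' T) D := hdis.closure_right (hopen _ hT.2)
  have hcov : C ∪ D = Set.univ := by
    rw [← closure_union, ← Set.image_union, Set.union_compl_self, Set.image_univ]
    refine (Dense.closure_eq ?_)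
    have e : Set.range j.base = P.hom.base ⁻¹' (U : Set X) :=
      (IsOpenImmersion.range_pullbackFst U.ι P.hom).trans (congrArg (P.hom.base ⁻¹' ·) (Scheme.Opens.range_ι U))
    rw [e]
    exact hU.preimage P.hom.isOpenMap
  let x := P.hom.base z
  have hx : x ∉ U := fun h => by
    obtain ⟨w, hw⟩ : z ∈ Set.range j.base := by
      rw [show Set.range j.base = P.hom.base ⁻¹' (U : Set X) from
        (IsOpenImmersion.range_pullbackFst U.ι P.hom).trans (congrArg (P.hom.base ⁻¹' ·) (Scheme.Opens.range_ι U))]
      exact h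
    by_cases hwT : w ∈ T
    · exact Set.disjoint_left.1 hC1D ⟨w, hwT, hw⟩ hzD
    · exact Set.disjoint_left.1 hCD2 hzC ⟨w, hwT, hw⟩
  obtain ⟨_, _, _, _, _, _, R, _, _, _, _, _, _, _⟩ := H9Hens.exists_isStrictHenselization_colim (X.presheaf.stalk x)
  haveI := hsh x hx R
  haveI : HenselianLocalRing R := Hensel.IsStrictHenselization.henselian (R := X.presheaf.stalk x)
  haveI : IsSepClosed (ResidueField R) :=
    (Hensel.IsStrictHenselization.isSepClosure (R := X.presheaf.stalk x) (S := R)).sep_closed
  let a : Spec (CommRingCat.of R) ⟶ Spec (X.presheaf.stalk x) :=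
    Spec.map (CommRingCat.ofHom (algebraMap (X.presheaf.stalk x) R))
  let toX := a ≫ X.fromSpecStalk x
  haveI : Flat a := by
    rw [Flat.SpecMap_iff, CommRingCat.hom_ofHom, RingHom.flat_algebraMap_iff]
    exact flat_strictHens (X.presheaf.stalk x) R
  haveI : Flat (X.fromSpecStalk x) := H22Alg.flat_fromSpecStalk X x
  have hcl : toX.base (closedPoint R) = x := by
    show X.fromSpecStalk x (a.base (closedPoint R)) = x
    rw [show a.base (closedPoint R) = closedPoint (X.presheaf.stalk x) from comap_closedPoint _]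
    exact X.fromSpecStalk_closedPoint
  have hgp : (closedGeomPt R).base default = closedPoint R := by
    rw [Subsingleton.elim (default : Spec (CommRingCat.of (ResidueField R))) (closedPoint (ResidueField R))]
    exact comap_closedPoint (residue R)
  let g0 := closedGeomPt R ≫ toX
  have hg0 : g0.base default = x := by
    show toX.base ((closedGeomPt R).base default) = x
    exact (congrArg toX.base hgp).trans hcl
  let Q : X.Etale := MorphismProperty.Over.mk ⊤ P.hom (inferInstanceAs (Etale P.hom))
  obtain ⟨t, ht⟩ := exists_fiber_over (U := Q) z g0 hg0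
  obtain ⟨s, hs, hs'⟩ := exists_section_of_etale R (pullback.snd P.hom toX)
    (pullback.lift t.left (closedGeomPt R) (Over.w t)) (pullback.lift_snd _ _ _)
  let σ := s ≫ pullback.fst P.hom toX
  have hσ : σ ≫ P.hom = toX := by
    rw [Category.assoc, pullback.condition, ← Category.assoc, hs, Category.id_comp]
  haveI : Flat (σ ≫ P.hom) := by rw [hσ]; infer_instance
  haveI : Flat σ := flat_of_comp_etale σ P.hom
  have hσz : σ.base (closedPoint R) = z := by
    have h1 : σ.base ((closedGeomPt R).base default) = (show Spec (CommRingCat.of (ResidueField R)) ⟶ P.left from t.left).base default := by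
      show ((closedGeomPt R ≫ s) ≫ pullback.fst P.hom toX).base default = _
      rw [hs', pullback.lift_fst]
      rfl
    rw [← hgp, h1]
    exact ht
  let Z : Set ↥(FEt.puncturedSpec R : Scheme.{u}) := (FEt.puncturedSpec R).ι.base ⁻¹' (σ.base ⁻¹' C)
  let Z' : Set ↥(FEt.puncturedSpec R : Scheme.{u}) := (FEt.puncturedSpec R).ι.base ⁻¹' (σ.base ⁻¹' D)
  have hne_z : ∀ p : PrimeSpectrum R, p ≠ closedPoint R → σ.base p ≠ z := fun p hp e => hp <| by
    refine eq_closedPoint_of_comap (X.presheaf.stalk x) R p ?_
    apply (X.fromSpecStalk x).isEmbedding.injective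
    refine Eq.trans ?_ X.fromSpecStalk_closedPoint.symm
    show toX.base p = x
    rw [← hσ]
    exact congrArg P.hom.base e
  have hspec : ∀ p : PrimeSpectrum R, σ.base p ⤳ z := fun p =>
    hσz ▸ (specializes_closedPoint p).map σ.continuous
  have hmem : ∀ q : ↥(FEt.puncturedSpec R : Scheme.{u}), ((FEt.puncturedSpec R).ι.base q : PrimeSpectrum R) ≠ closedPoint R :=
    fun q => q.2
  have hdisZ : Disjoint Z Z' := Set.disjoint_left.2 fun q h h' =>
    hne_z _ (hmem q) (hmax _ ⟨h, h'⟩ (hspec _))
  have hunion : Z ∪ Z' = Set.univ := Set.eq_univ_of_forall fun q => by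
    have : σ.base ((FEt.puncturedSpec R).ι.base q) ∈ C ∪ D := hcov ▸ Set.mem_univ _
    exact this
  have hclosed : IsClosed Z ∧ IsClosed Z' :=
    ⟨(isClosed_closure.preimage σ.continuous).preimage (FEt.puncturedSpec R).ι.continuous,
      (isClosed_closure.preimage σ.continuous).preimage (FEt.puncturedSpec R).ι.continuous⟩
  have hclopen : IsClopen Z := ⟨hclosed.1, by
    rw [show Z = Z'ᶜ from (IsCompl.compl_eq (IsCompl.symm ⟨hdisZ, by
      rw [codisjoint_iff]; exact hunion⟩)).symm]
    exact hclosed.2.isOpen_compl⟩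
  have lift : ∀ S : Set ↥((FEt.restrict U.ι).obj P).left, IsClopen S → z ∈ closure (j.base '' S) →
      ∃ q : ↥(FEt.puncturedSpec R : Scheme.{u}), σ.base ((FEt.puncturedSpec R).ι.base q) ∈ j.base '' S := by
    intro S hS hzS
    obtain ⟨η, hη, hηz⟩ := hcs P S hS z hzS
    obtain ⟨p, -, hp⟩ := Flat.generalizingMap (f := σ) (hσz.symm ▸ hηz : η ⤳ σ.base (closedPoint R))
    have hp' : (p : PrimeSpectrum R) ≠ closedPoint R := fun e => by
      subst e
      rw [hσz] at hp
      obtain ⟨w, -, hw⟩ := hη
      exact hx (by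
        show P.hom.base z ∈ (U : Set X)
        rw [hp, ← hw, ← Scheme.Opens.range_ι U]
        exact ⟨(pullback.snd P.hom U.ι).base w, ((Scheme.Hom.comp_apply _ _ _).symm.trans
          (congrArg (fun k : pullback P.hom U.ι ⟶ X => k.base w) (pullback.condition (f := P.hom) (g := U.ι)).symm)).trans (Scheme.Hom.comp_apply _ _ _)⟩)
    exact ⟨⟨p, hp'⟩, hp ▸ hη⟩
  rcases isClopen_iff.1 hclopen with h0 | h0
  · obtain ⟨q, hq⟩ := lift T hT hzC
    exact Set.notMem_empty q (h0 ▸ (subset_closure hq : q ∈ Z))
  · obtain ⟨q, hq⟩ := lift Tᶜ hT.compl hzD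
    exact Set.disjoint_left.1 hdisZ (h0 ▸ Set.mem_univ q) (subset_closure hq : q ∈ Z')

theorem clopensDescend {X : Scheme.{u}} {U : X.Opens} (hU : Dense (U : Set X))
    (hsh : ConnectedAtInfinity U) (hcs : ClosureBySpecialization U) :
    FEtRestrict.ClopensDescend U.ι := by
  intro P T hT
  haveI : IsFinite P.hom := P.prop.1
  haveI : Etale P.hom := P.prop.2
  let j := pullback.fst P.hom U.ι
  have hd := disjoint_closure hsh hcs P T hT hU
  have hinj : Function.Injective j.base := j.isOpenEmbedding.injective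
  have hcov : closure (j.base '' T) ∪ closure (j.base '' Tᶜ) = Set.univ := by
    rw [← closure_union, ← Set.image_union, Set.union_compl_self, Set.image_univ]
    refine Dense.closure_eq ?_
    rw [show Set.range j.base = P.hom.base ⁻¹' (U : Set X) from
      (IsOpenImmersion.range_pullbackFst U.ι P.hom).trans (congrArg (P.hom.base ⁻¹' ·) (Scheme.Opens.range_ι U))]
    exact hU.preimage P.hom.isOpenMap
  refine ⟨closure (j.base '' T), ⟨isClosed_closure, ?_⟩, ?_⟩
  · rw [show closure (j.base '' T) = (closure (j.base '' Tᶜ))ᶜ from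
      (IsCompl.compl_eq (IsCompl.symm ⟨hd, by rw [codisjoint_iff]; exact hcov⟩)).symm]
    exact isClosed_closure.isOpen_compl
  · refine Set.Subset.antisymm (fun q hq => ?_) fun q hq => subset_closure ⟨q, hq, rfl⟩
    by_contra hqT
    exact Set.disjoint_left.1 hd hq (subset_closure ⟨q, hqT, rfl⟩)

theorem fullyFaithful {X : Scheme.{u}} {U : X.Opens} (hU : Dense (U : Set X))
    (hsh : ConnectedAtInfinity U) (hcs : ClosureBySpecialization U) :
    (FEt.restrict U.ι).Full ∧ (FEt.restrict U.ι).Faithful :=
  ⟨FEtRestrict.full _ (meetsClopens hU) (clopensDescend hU hsh hcs), FEtRestrict.faithful _ (meetsClopens hU)⟩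

end Groth.Agent.H15Site.PunctFF
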